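import Cfsg.Agent.CosetEnum.Fi22Order.Order
import Cfsg.Agent.CosetEnum.Fi22Simple.Closure4
import Cfsg.Agent.CosetEnum.Fi22Simple.Primitive
import Cfsg.Agent.CosetEnum.WordTest

set_option autoImplicit false
set_option maxRecDepth 100000
set_option exponentiation.threshold 200000

/-! Simplicity of the presented Fischer group Fi22. -/

namespace CfsgLib.CosetEnum.Fi22

theorem factorization_order : Nat.factorization 64561751654400 13 = 1 := by
  have h : 64561751654400 = 13 ^ 1 * 4966288588800 := by norm_num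
  rw [h, Nat.factorization_mul (by norm_num) (by norm_num), Nat.Prime.factorization_pow (by norm_num)]
  simp [Nat.factorization_eq_zero_of_not_dvd (show ¬ 13 ∣ 4966288588800 by decide +kernel)]

theorem normal_eq_top (N : Subgroup setup.Grp) [N.Normal] (hN : N ≠ ⊥) : N = ⊤ := by
  haveI := finite_grp
  obtain ⟨φ, e, hφ, he, he0, hinj, hcard⟩ := order_and_action
  have hn : 3510 ∣ Nat.card N :=
    dvd_card_normal e he hinj (fun K hK => Fi22H.maximal φ e hφ he he0 hK) N hN
  have hpN : 13 ∣ Nat.card N := (show 13 ∣ 3510 by decide).trans hn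
  haveI : _root_.Fact (Nat.Prime 13) := ⟨by norm_num⟩
  have hlt : ∀ a ∈ Fi22H.wElt, a < setup.k := show ∀ a ∈ Fi22H.wElt, a < 9 by decide
  have hpow : prodw setup.g Fi22H.wElt ^ 13 = 1 := by
    rw [← prodw_replicate, ← prodw_nil setup.g]
    exact prodw_eq_of_sameWord hinj hφ _ _ (show ∀ a ∈ (List.replicate 13 Fi22H.wElt).flatten, a < 9 by decide)
      (fun a ha => absurd ha List.not_mem_nil) (show 3510 ≤ 2 ^ 12 by decide) (by decide +kernel)
  have hne : prodw setup.g Fi22H.wElt ≠ 1 :=
    prodw_ne_one_of_moves hφ _ hlt 0 (show 0 < 3510 by decide) (by decide +kernel)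
  have hwN : prodw setup.g Fi22H.wElt ∈ N :=
    mem_normal_of_prime (orderOf_eq_prime hpow hne) (by rw [hcard]; exact factorization_order) N hpN
  rw [eq_top_iff, ← setup.letSub_all (List.range 9) (fun x hx => List.mem_range.mpr hx)]
  refine (Subgroup.closure_le _).mpr ?_
  rintro _ ⟨x, hx, rfl⟩
  have := Fi22H.generators_mem φ hφ N hwN hinj x (List.mem_range.mp hx)
  simpa [prodw] using this

theorem isSimpleGroup_Fi22 : IsSimpleGroup Cfsg.Spor.Fi22 := by
  have hne : Nontrivial Cfsg.Spor.Fi22 := (@Finite.one_lt_card_iff_nontrivial _ finite_grp).mp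
    (lt_of_lt_of_eq (show (1 : ℕ) < _ by norm_num) (card_Fi22).symm)
  exact { toNontrivial := hne
          eq_bot_or_eq_top_of_normal := fun N hN => (em (N = ⊥)).imp id fun h => @normal_eq_top N hN h }

end CfsgLib.CosetEnum.Fi22
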